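import Groth.Agent.Lib.FieldH25.Transfer
import Groth.Agent.Lib.FieldBr3.Devissage
import Groth.Prelude.Def_LefMon

set_option backward.isDefEq.respectTransparency.types false

/-!
# Functoriality of `LefMon.Hmap`
-/

universe u

open CategoryTheory CategoryTheory.Limits AlgebraicGeometry Opposite CategoryTheory.Abelian

namespace Groth.Agent.HmapComp15

open Groth.Agent.EtStalk

variable {X Y Z : Scheme.{u}} {M : Type} [AddCommGroup M]

/-- The constant section `m` of the constant sheaf. -/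
noncomputable def mSec (X : Scheme.{u}) (m : ULift.{u + 1} M) :
    (EtCoh.const X M).obj.obj (op (EtCoh.top X)) :=
  (EtCore.constAdj X).unit.app (AddCommGrpCat.of (ULift.{u + 1} M)) m

lemma hom_ext_sec {G : EtCoh.Ab X} {a b : EtCoh.const X M ⟶ G}
    (h : ∀ m, a.hom.app (op (EtCoh.top X)) (mSec X m) = b.hom.app (op (EtCoh.top X)) (mSec X m)) :
    a = b := by
  refine ((EtCore.constAdj X).homEquiv _ _).injective ?_
  ext m
  rw [Adjunction.homEquiv_unit, Adjunction.homEquiv_unit]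
  exact h m

variable (f : X ⟶ Y) (g : Y ⟶ Z)

lemma pullConst_inv_sec (m : ULift.{u + 1} M) :
    (EtCore.pullConst f M).inv.hom.app (op (EtCoh.top X)) (mSec X m) =
      ((EtCoh.pull f).obj (EtCoh.const Y M)).obj.map (EtCore.bcTopIso f).inv.op
        (((EtCoh.pullPushAdj f).unit.app (EtCoh.const Y M)).hom.app (op (EtCoh.top Y))
          (mSec Y m)) := by
  have h := ConcreteCategory.congr_hom (Adjunction.homEquiv_leftAdjointUniq_hom_app (EtCore.constAdj X)
    (((EtCore.constAdj Y).comp (EtCoh.pullPushAdj f)).ofNatIsoRight (EtCore.pushGsecIso f))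
    (AddCommGrpCat.of (ULift.{u + 1} M))) m
  rw [Adjunction.homEquiv_unit] at h
  rw [show (EtCore.pullConst f M).inv = _ from
    Adjunction.leftAdjointUniq_inv_app _ _ _]
  exact h

lemma pullConst_compM :
    (EtCore.pullConst f M).inv ≫ (EtCoh.pull f).map (EtCore.pullConst g M).inv ≫
      (EtCore.pullComp f g).inv.app (EtCoh.const Z M) = (EtCore.pullConst (f ≫ g) M).inv := by
  refine hom_ext_sec fun m => ?_
  obtain ⟨e, he⟩ := pullComp_inv_unit f g (EtCoh.const Z M) (V := EtCoh.top Z) (mSec Z m)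
  rw [pullConst_inv_sec (f ≫ g) m, ← he]
  change ((EtCore.pullComp f g).inv.app (EtCoh.const Z M)).hom.app _
    (((EtCoh.pull f).map (EtCore.pullConst g M).inv).hom.app _
      ((EtCore.pullConst f M).inv.hom.app _ (mSec X m))) = _
  rw [pullConst_inv_sec f m]
  have hn : ((EtCoh.pull f).map (EtCore.pullConst g M).inv).hom.app (op ((EtCoh.bc f).obj (EtCoh.top Y)))
      (((EtCoh.pullPushAdj f).unit.app (EtCoh.const Y M)).hom.app (op (EtCoh.top Y)) (mSec Y m)) =
      ((EtCoh.pullPushAdj f).unit.app ((EtCoh.pull g).obj (EtCoh.const Z M))).hom.app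
        (op (EtCoh.top Y)) ((EtCore.pullConst g M).inv.hom.app (op (EtCoh.top Y)) (mSec Y m)) :=
    (congrArg (fun t : EtCoh.const Y M ⟶ (EtCoh.push f).obj ((EtCoh.pull f).obj
      ((EtCoh.pull g).obj (EtCoh.const Z M))) => t.hom.app (op (EtCoh.top Y)) (mSec Y m))
      ((EtCoh.pullPushAdj f).unit.naturality (EtCore.pullConst g M).inv)).symm
  erw [NatTrans.naturality_apply, hn, pullConst_inv_sec g m, NatTrans.naturality_apply]
  erw [NatTrans.naturality_apply, NatTrans.naturality_apply]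
  refine (Functor.map_comp_apply _ _ _ _).symm.trans (Eq.trans ?_ (Functor.map_comp_apply _ _ _ _))
  refine DFunLike.congr_fun (congrArg (fun m => ConcreteCategory.hom
    (((EtCoh.pull (f ≫ g)).obj (EtCoh.const Z M)).obj.map m)) ?_) _
  exact Quiver.Hom.unop_inj
    ((IsTerminal.isTerminalObj (EtCoh.bc f) _ (EtCore.bcTopIsTerminal g)).hom_ext _ _)


theorem Hmap_comp {ℓ : ℕ} (hf : PreservesFiniteLimits (EtCoh.pull f)) (hg : PreservesFiniteLimits (EtCoh.pull g))
    (hfg : PreservesFiniteLimits (EtCoh.pull (f ≫ g))) (i ν : ℕ) (x : EtAdic.Hmod Z ℓ i ν) :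
    EtAdic.Hmap ℓ f hf i ν (EtAdic.Hmap ℓ g hg i ν x) = EtAdic.Hmap ℓ (f ≫ g) hfg i ν x := by
  haveI := hf; haveI := hg; haveI := hfg
  let cf := EtCore.pullConst f (ZMod (ℓ ^ ν))
  let cg := EtCore.pullConst g (ZMod (ℓ ^ ν))
  let cfg := EtCore.pullConst (f ≫ g) (ZMod (ℓ ^ ν))
  show (EtCore.Hpull f _ i ((EtCore.Hpull g _ i x).comp (Ext.mk₀ cg.hom) (add_zero i))).comp (Ext.mk₀ cf.hom) (add_zero i) =
    (EtCore.Hpull (f ≫ g) _ i x).comp (Ext.mk₀ cfg.hom) (add_zero i)
  have key : (EtCoh.pull f).map cg.hom ≫ cf.hom = (EtCore.pullComp f g).inv.app _ ≫ cfg.hom := by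
    have h := pullConst_compM (M := ZMod (ℓ ^ ν)) f g
    refine (cancel_epi ((EtCoh.pull f).map cg.inv)).1 ?_
    refine (cancel_epi cf.inv).1 ?_
    have h1 : (EtCoh.pull f).map cg.inv ≫ (EtCoh.pull f).map cg.hom ≫ cf.hom = cf.hom := by
      rw [← Category.assoc, ← Functor.map_comp, Iso.inv_hom_id, CategoryTheory.Functor.map_id, Category.id_comp]
    have h2 : cf.inv ≫ (EtCoh.pull f).map cg.inv ≫ (EtCore.pullComp f g).inv.app _ = cfg.inv := h
    rw [h1, Iso.inv_hom_id, ← Category.assoc ((EtCoh.pull f).map cg.inv), ← Category.assoc cf.inv, h2, Iso.inv_hom_id]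
  rw [FieldBr3.Hpull_comp_mk₀, Ext.comp_assoc_of_third_deg_zero, Ext.mk₀_comp_mk₀, key, ← Ext.mk₀_comp_mk₀,
    ← Ext.comp_assoc_of_third_deg_zero]
  erw [FieldH25.Hpull_comp]

end Groth.Agent.HmapComp15
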